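import Groth.Agent.H17.RegDescent.Local
import Groth.Agent.H17.KoszComp.Scheme
import Groth.Agent.H29Slice.RegImm
import Mathlib

/-!
# fpqc descent of Koszul-, H₁- and quasi-regular immersions
-/

set_option autoImplicit false
set_option linter.style.haveILetI false
universe u

open CategoryTheory CategoryTheory.Limits AlgebraicGeometry TopologicalSpace

namespace Groth.Agent.H17.RegDescent

variable {X X' Z Z' : Scheme.{u}}

/-- An immersion is closed over a small affine neighbourhood of each point of its range. -/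
theorem exists_affine_closed (i : Z ⟶ X) [IsImmersion i] (z : Z) (O : X.Opens) (hO : i z ∈ O) :
    ∃ U : X.affineOpens, i z ∈ U.1 ∧ U.1 ≤ O ∧ IsClosedImmersion (i ∣_ U.1) := by
  obtain ⟨V, C, hV, hC, hVC⟩ := (i.isLocallyClosed_range : IsLocallyClosed (Set.range i))
  have hzV : i z ∈ V := (hVC.le ⟨z, rfl⟩).1
  obtain ⟨U, hU, hzU, hUle⟩ := exists_isAffineOpen_mem_and_subset (U := (⟨V, hV⟩ : X.Opens) ⊓ O) (x := i z)
    ⟨hzV, hO⟩
  refine ⟨⟨U, hU⟩, hzU, fun x hx => (hUle hx).2, ?_⟩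
  haveI : IsPreimmersion (i ∣_ U) := inferInstance
  refine IsClosedImmersion.of_isPreimmersion _ ?_
  have : Set.range (i ∣_ U) = (Subtype.val : U → X) ⁻¹' C := by
    ext y
    constructor
    · rintro ⟨w, rfl⟩
      show ((i ∣_ U) w).1 ∈ C
      rw [morphismRestrict_base_coe]
      exact (hVC.le ⟨_, rfl⟩).2
    · intro hy
      obtain ⟨w, hw⟩ := hVC.ge ⟨(hUle y.2).1, hy⟩
      refine ⟨⟨w, show i w ∈ U from hw ▸ y.2⟩, Subtype.ext ?_⟩
      rw [morphismRestrict_base_coe]
      exact hw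
  rw [this]
  exact hC.preimage continuous_subtype_val

/-- Regular charts restrict to smaller affine opens around a point. -/
theorem exists_chart_le {k : RegImm.Kind} (hk : k ≠ RegImm.Kind.regular) (i : Z ⟶ X) (z : Z)
    (hi : RegImm.IsRegularImmersionAt k i z) (O : X.Opens) (hO : i z ∈ O) :
    ∃ U : X.affineOpens, i z ∈ U.1 ∧ U.1 ≤ O ∧ IsClosedImmersion (i ∣_ U.1) ∧
      ∃ rs : List Γ(X, U.1), k.Seq Γ(X, U.1) rs ∧ RingHom.ker (i.app U.1).hom = Ideal.ofList rs := by
  cases k with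
  | regular => exact absurd rfl hk
  | h1 => exact H29Slice.exists_shrink (Or.inl rfl) i z hi O hO
  | quasi => exact H29Slice.exists_shrink (Or.inr rfl) i z hi O hO
  | koszul =>
    obtain ⟨U, hz, hcl, rs, hrs, hker⟩ := hi
    obtain ⟨b, hb, hzb⟩ := U.2.exists_basicOpen_le ⟨i z, hO⟩ hz
    obtain ⟨hcl', hrs', hker'⟩ :=
      KoszComp.chart_restrict i U (X.affineBasicOpen b) (X.basicOpen_le b) hcl hrs hker
    exact ⟨X.affineBasicOpen b, hzb, hb, hcl', _, hrs', hker'⟩

theorem flat_germ (U : X.affineOpens) (x : X) (hx : x ∈ U.1) : (X.presheaf.germ U.1 x hx).hom.Flat := by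
  letI : Algebra Γ(X, U.1) (X.presheaf.stalk x) := (X.presheaf.germ U.1 x hx).hom.toAlgebra
  haveI : IsLocalization.AtPrime (X.presheaf.stalk x) (U.2.primeIdealOf ⟨x, hx⟩).asIdeal :=
    U.2.isLocalization_stalk ⟨x, hx⟩
  exact IsLocalization.flat (X.presheaf.stalk x) (U.2.primeIdealOf ⟨x, hx⟩).asIdeal.primeCompl

/-- Outside the range, the ideal of an immersion is trivial. -/
theorem exists_ker_eq_top (i : Z ⟶ X) (U : X.affineOpens) (hcl : IsClosedImmersion (i ∣_ U.1)) (x : X)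
    (hx : x ∈ U.1) (hxi : x ∉ Set.range i) :
    ∃ D : X.affineOpens, x ∈ D.1 ∧ ∃ e : D.1 ≤ U.1, RingHom.ker (i.app D.1).hom = ⊤ ∧
      (RingHom.ker (i.app U.1).hom).map (X.presheaf.germ U.1 x hx).hom = ⊤ := by
  haveI := hcl
  have hclosed : IsClosed (Set.range (i ∣_ U.1)) := (i ∣_ U.1).isClosedEmbedding.isClosed_range
  obtain ⟨C, hC, hCU⟩ := isClosed_induced_iff.1 hclosed
  have hxC : x ∉ C := fun h => by
    obtain ⟨w, hw⟩ := hCU.le (show (⟨x, hx⟩ : U.1) ∈ Subtype.val ⁻¹' C from h)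
    refine hxi ⟨(i ⁻¹ᵁ U.1).ι w, ?_⟩
    have := congrArg Subtype.val hw
    rwa [morphismRestrict_base_coe] at this
  obtain ⟨b, hb, hxb⟩ := U.2.exists_basicOpen_le (V := ⟨Cᶜ, hC.isOpen_compl⟩) ⟨x, hxC⟩ hx
  have hempty : i ⁻¹ᵁ X.basicOpen b = ⊥ := by
    refine le_bot_iff.1 fun w hw => ?_
    exfalso
    have h1 : (i ∣_ U.1) ⟨w, X.basicOpen_le b hw⟩ ∈ Subtype.val ⁻¹' C := hCU.ge ⟨_, rfl⟩
    have h2 : ((i ∣_ U.1) ⟨w, X.basicOpen_le b hw⟩).1 ∈ C := h1
    rw [morphismRestrict_base_coe] at h2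
    exact hb hw h2
  haveI : Subsingleton Γ(Z, i ⁻¹ᵁ X.basicOpen b) := by
    rw [hempty]; infer_instance
  have hker : RingHom.ker (i.app (X.basicOpen b)).hom = ⊤ :=
    (Ideal.eq_top_iff_one _).2 (Subsingleton.elim _ _)
  refine ⟨X.affineBasicOpen b, hxb, X.basicOpen_le b, hker, ?_⟩
  have H : IsPullback (𝟙 Z) i i (𝟙 X) := IsPullback.of_horiz_isIso ⟨by simp⟩
  obtain ⟨-, hker'⟩ := H29Slice.restrict_baseChange H U.2 hcl (U.2.basicOpen b) (e := X.basicOpen_le b)
  rw [hker] at hker'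
  have he : Scheme.Hom.appLE (𝟙 X) U.1 (X.basicOpen b) (X.basicOpen_le b) =
      X.presheaf.map (homOfLE (X.basicOpen_le b)).op := by
    simp only [Scheme.Hom.appLE, Scheme.Hom.id_app]
    rfl
  rw [he] at hker'
  have := congrArg (Ideal.map (X.presheaf.germ (X.basicOpen b) x hxb).hom) hker'.symm
  rw [Ideal.map_map, ← CommRingCat.hom_comp, X.presheaf.germ_res, Ideal.map_top] at this
  exact this

theorem germ_appLE (g : X' ⟶ X) (U : X.Opens) (W : X'.Opens) (e : W ≤ g ⁻¹ᵁ U) (x' : X') (hx' : x' ∈ W) :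
    g.appLE U W e ≫ X'.presheaf.germ W x' hx' = X.presheaf.germ U (g x') (e hx') ≫ g.stalkMap x' := by
  rw [Scheme.Hom.germ_stalkMap g U x' (e hx'), Scheme.Hom.appLE, Category.assoc, X'.presheaf.germ_res]

/-- Least length of a list of generators. -/
noncomputable def minLen {R : Type u} [CommRing R] (J : Ideal R) : ℕ :=
  sInf {n | ∃ l : List R, l.length = n ∧ Ideal.ofList l = J}

theorem minLen_eq {R : Type u} [CommRing R] [IsLocalRing R] {f : List R} (hf : Irred f) :
    minLen (Ideal.ofList f) = f.length := by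
  refine le_antisymm (Nat.sInf_le ⟨f, rfl, rfl⟩) (le_csInf ⟨_, f, rfl, rfl⟩ ?_)
  rintro _ ⟨l, rfl, hl⟩
  exact length_le_of_irred hf hl

theorem irred_map {R S : Type u} [CommRing R] [CommRing S] [IsLocalRing R] [IsLocalRing S]
    (φ : R →+* S) [IsLocalHom φ] (hφ : φ.Flat) {f : List R} (hf : Irred f) : Irred (f.map φ) := by
  letI := φ.toAlgebra
  haveI : Module.Flat R S := hφ
  haveI : IsLocalHom (algebraMap R S) := ‹IsLocalHom φ›
  haveI : Module.FaithfullyFlat R S := Module.FaithfullyFlat.of_flat_of_isLocalHom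
  intro l a m h ha
  obtain ⟨l', m₀, rfl, rfl, h'⟩ := List.map_eq_append_iff.1 h
  obtain ⟨a', m', rfl, rfl, rfl⟩ := List.map_eq_cons_iff.1 h'
  refine hf l' a' m' rfl ?_
  rw [← List.map_append, ← Ideal.map_ofList] at ha
  rw [← Ideal.comap_map_eq_self_of_faithfullyFlat (A := R) (B := S) (Ideal.ofList (l' ++ m'))]
  exact ha

/-- A minimal sublist of generators in a local ring. -/
theorem exists_min_sublist {R S : Type u} [CommRing R] [CommRing S] (φ : R →+* S) (L : List R) :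
    ∃ f : List R, Ideal.ofList f ≤ Ideal.ofList L ∧ Ideal.ofList (f.map φ) = Ideal.ofList (L.map φ) ∧
      Irred (f.map φ) := by
  classical
  have hex : ∃ n, ∃ f : List R, f.length = n ∧ (∀ a ∈ f, a ∈ L) ∧
      Ideal.ofList (f.map φ) = Ideal.ofList (L.map φ) := ⟨_, L, rfl, fun _ h => h, rfl⟩
  obtain ⟨f, hlen, hmem, hspan⟩ := Nat.find_spec hex
  refine ⟨f, Ideal.span_mono hmem, hspan, ?_⟩
  intro l a m h ha
  obtain ⟨l', m₀, rfl, rfl, h'⟩ := List.map_eq_append_iff.1 h
  obtain ⟨a', m', rfl, rfl, rfl⟩ := List.map_eq_cons_iff.1 h'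
  refine Nat.find_min hex (m := (l' ++ m').length) (by rw [← hlen]; simp) ⟨l' ++ m', rfl, ?_, ?_⟩
  · intro b hb
    refine hmem b ?_
    rcases List.mem_append.1 hb with hb | hb
    · exact List.mem_append_left _ hb
    · exact List.mem_append_right _ (List.mem_cons_of_mem _ hb)
  · rw [← hspan, List.map_append, List.map_append, List.map_cons, ofList_perm List.perm_middle,
      Ideal.ofList_cons, right_eq_sup, Ideal.span_singleton_le_iff_mem]
    exact ha

/-- Membership in an ideal descends along flat families. -/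
theorem mem_of_flat_family {A : Type u} [CommRing A] (I : Ideal A) (a : A)
    (H : ∀ m : Ideal A, m.IsMaximal → ∃ (B : Type u) (_ : CommRing B) (_ : Algebra A B),
      Module.Flat A B ∧ m.map (algebraMap A B) ≠ ⊤ ∧ algebraMap A B a ∈ I.map (algebraMap A B)) : a ∈ I := by
  by_contra ha
  obtain ⟨m, hm, hJm⟩ := Ideal.exists_le_maximal (Submodule.comap (LinearMap.toSpanSingleton A A a) I)
    fun h => ha (by simpa using ((Ideal.eq_top_iff_one _).1 h : _))
  obtain ⟨B, _, _, hfl, hne, hmem⟩ := H m hm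
  haveI := hfl
  refine hne (top_le_iff.1 ((colon_map_eq_top B I a ?_).symm.le.trans (Ideal.map_mono hJm)))
  have hsub : ∀ b ∈ I.map (algebraMap A B), b ⊗ₜ[A] (1 : A) ∈ LinearMap.range (I.subtype.lTensor B) := by
    intro b hb
    induction hb using Submodule.span_induction with
    | mem y hy =>
      obtain ⟨c, hc, rfl⟩ := hy
      refine ⟨(1 : B) ⊗ₜ[A] ⟨c, hc⟩, ?_⟩
      rw [LinearMap.lTensor_tmul, Algebra.algebraMap_eq_smul_one, TensorProduct.smul_tmul, smul_eq_mul, mul_one]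
      rfl
    | zero => rw [TensorProduct.zero_tmul]; exact zero_mem _
    | add y z _ _ hy hz => rw [TensorProduct.add_tmul]; exact add_mem hy hz
    | smul c y _ hy =>
      obtain ⟨z, hz⟩ := hy
      refine ⟨c • z, ?_⟩
      show (Submodule.subtype _).baseChange B (c • z) = _
      rw [map_smul]
      exact congrArg (c • ·) hz
  have := hsub _ hmem
  rwa [Algebra.algebraMap_eq_smul_one, TensorProduct.smul_tmul, smul_eq_mul, mul_one] at this

theorem descend (i : Z ⟶ X) [IsImmersion i] (g : X' ⟶ X) [Flat g] [Surjective g] [QuasiCompact g]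
    (i' : Z' ⟶ X') (g' : Z' ⟶ Z) (hsq : IsPullback g' i' i g) (k : RegImm.Kind)
    (hk : k ≠ RegImm.Kind.regular) (h : RegImm.IsRegularImmersion k i') :
    RegImm.IsRegularImmersion k i := by
  haveI : Flat g' := MorphismProperty.of_isPullback hsq.flip inferInstance
  haveI : Surjective g' := MorphismProperty.of_isPullback hsq.flip inferInstance
  haveI : QuasiCompact g' := MorphismProperty.of_isPullback hsq.flip inferInstance
  haveI := h.1
  -- the map from functions on a neighbourhood to a local ring of `X'`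
  let θ : ∀ (U : X.affineOpens) (x' : X') (hx : g x' ∈ U.1), Γ(X, U.1) →+* X'.presheaf.stalk x' :=
    fun U x' hx => (g.stalkMap x').hom.comp (X.presheaf.germ U.1 (g x') hx).hom
  have hθflat : ∀ U x' hx, (θ U x' hx).Flat := fun U x' hx =>
    (flat_germ U (g x') hx).comp (Flat.stalkMap g x')
  have hθW : ∀ (U : X.affineOpens) (W : X'.affineOpens) (e : W.1 ≤ g ⁻¹ᵁ U.1) (x' : X') (hx' : x' ∈ W.1),
      θ U x' (e hx') = (X'.presheaf.germ W.1 x' hx').hom.comp (g.appLE U.1 W.1 e).hom := fun U W e x' hx' =>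
    (congrArg CommRingCat.Hom.hom (germ_appLE g U.1 W.1 e x' hx')).symm
  -- regular generators of the ideal near every point of `X'`
  have hloc : ∀ (U : X.affineOpens) (_ : IsClosedImmersion (i ∣_ U.1)) (x' : X') (_ : g x' ∈ U.1),
      ∃ (W : X'.affineOpens) (_ : x' ∈ W.1) (e : W.1 ≤ g ⁻¹ᵁ U.1) (rs : List Γ(X', W.1)),
        (RingHom.ker (i.app U.1).hom).map (g.appLE U.1 W.1 e).hom = Ideal.ofList rs ∧
        (x' ∈ Set.range i' → k.Seq Γ(X', W.1) rs) := by
    intro U hcl x' hx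
    by_cases hxr : x' ∈ Set.range i'
    · obtain ⟨z', rfl⟩ := hxr
      obtain ⟨W, hzW, hWle, hclW, rs, hrs, hker⟩ := exists_chart_le hk i' z' (h.2 z') (g ⁻¹ᵁ U.1) hx
      refine ⟨W, hzW, hWle, rs, ?_, fun _ => hrs⟩
      rw [← (H29Slice.restrict_baseChange hsq U.2 hcl W.2 hWle).2, hker]
    · obtain ⟨W₀, hW₀, hxW₀, hW₀le⟩ := exists_isAffineOpen_mem_and_subset (U := g ⁻¹ᵁ U.1) (x := x') hx
      obtain ⟨D, hxD, e, hker, -⟩ := exists_ker_eq_top i' ⟨W₀, hW₀⟩
        (H29Slice.restrict_baseChange hsq U.2 hcl hW₀ hW₀le).1 x' hxW₀ hxr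
      refine ⟨D, hxD, fun y hy => hW₀le (e hy), [1], ?_, fun hx' => absurd hx' hxr⟩
      rw [← (H29Slice.restrict_baseChange hsq U.2 hcl D.2 (e := fun y hy => hW₀le (e hy))).2, hker,
        Ideal.ofList_singleton, Ideal.span_singleton_one]
  have hflatW : ∀ (W : X'.affineOpens) (x' : X') (hx' : x' ∈ W.1) (rs : List Γ(X', W.1)),
      k.Seq Γ(X', W.1) rs → k.Seq (X'.presheaf.stalk x') (rs.map (X'.presheaf.germ W.1 x' hx').hom) := by
    intro W x' hx' rs hrs
    letI := (X'.presheaf.germ W.1 x' hx').hom.toAlgebra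
    haveI : Module.Flat Γ(X', W.1) (X'.presheaf.stalk x') := flat_germ W x' hx'
    exact seq_flat' hk (X'.presheaf.stalk x') hrs
  have hmax : ∀ (U : X.affineOpens) (x' : X') (hx : g x' ∈ U.1),
      (U.2.primeIdealOf ⟨g x', hx⟩).asIdeal.map (θ U x' hx) ≠ ⊤ := by
    intro U x' hx htop
    refine (IsLocalRing.maximalIdeal.isMaximal (X'.presheaf.stalk x')).ne_top (top_le_iff.1 ?_)
    rw [← htop, ← Ideal.map_map]
    refine (Ideal.map_mono (?_ : _ ≤ IsLocalRing.maximalIdeal (X.presheaf.stalk (g x')))).trans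
      (?_ : Ideal.map (g.stalkMap x').hom _ ≤ _)
    rotate_left
    · have hl : IsLocalHom (g.stalkMap x').hom := inferInstance
      exact ((IsLocalRing.local_hom_TFAE (g.stalkMap x').hom).out 0 2).1 hl
    letI : Algebra Γ(X, U.1) (X.presheaf.stalk (g x')) := (X.presheaf.germ U.1 (g x') hx).hom.toAlgebra
    haveI : IsLocalization.AtPrime (X.presheaf.stalk (g x')) (U.2.primeIdealOf ⟨g x', hx⟩).asIdeal :=
      U.2.isLocalization_stalk ⟨g x', hx⟩
    exact (IsLocalization.AtPrime.map_eq_maximalIdeal (U.2.primeIdealOf ⟨g x', hx⟩).asIdeal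
      (X.presheaf.stalk (g x'))).le
  -- the ideal is finitely generated
  have hfg : ∀ (U : X.affineOpens) (_ : IsClosedImmersion (i ∣_ U.1)),
      (RingHom.ker (i.app U.1).hom).FG := by
    intro U hcl
    choose W hxW e rs hrs _ using fun x' : (g ⁻¹ᵁ U.1 : X'.Opens) => hloc U hcl x'.1 x'.2
    have hc : IsCompact ((g ⁻¹ᵁ U.1 : X'.Opens) : Set X') := g.isCompact_preimage U.2.isCompact
    obtain ⟨t, ht⟩ := hc.elim_finite_subcover (fun x' => ((W x').1 : Set X')) (fun x' => (W x').1.isOpen)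
      fun x' hx' => Set.mem_iUnion.2 ⟨⟨x', hx'⟩, hxW ⟨x', hx'⟩⟩
    have : ∀ x', ∃ s : Finset Γ(X, U.1), (s : Set Γ(X, U.1)) ⊆ RingHom.ker (i.app U.1).hom ∧
        (Ideal.span (s : Set Γ(X, U.1))).map (g.appLE U.1 (W x').1 (e x')).hom = Ideal.ofList (rs x') := by
      intro x'
      have h1 : (Ideal.span ((g.appLE U.1 (W x').1 (e x')).hom '' RingHom.ker (i.app U.1).hom)).FG := by
        rw [show Ideal.span ((g.appLE U.1 (W x').1 (e x')).hom '' RingHom.ker (i.app U.1).hom) =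
          Ideal.ofList (rs x') from hrs x']
        classical
        exact ⟨(rs x').toFinset, by simp [Ideal.ofList]⟩
      obtain ⟨s, hs, hsfin⟩ := Submodule.fg_span_iff_fg_span_finset_subset _ |>.1 h1
      classical
      choose pre hpre hpre' using hs
      refine ⟨s.attach.image fun y => pre y.2, ?_, ?_⟩
      · intro a ha
        simp only [Finset.coe_image, Set.mem_image] at ha
        obtain ⟨y, -, rfl⟩ := ha
        exact hpre y.2
      · rw [Ideal.map_span, ← hrs x', Ideal.map]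
        refine le_antisymm (Ideal.span_mono ?_) ?_
        · rintro _ ⟨a, ha, rfl⟩
          simp only [Finset.coe_image, Set.mem_image] at ha
          obtain ⟨y, -, rfl⟩ := ha
          exact ⟨_, hpre y.2, rfl⟩
        · refine hsfin.le.trans (Ideal.span_mono fun y hy => ?_)
          exact ⟨pre hy, by simp only [Finset.coe_image, Set.mem_image]; exact ⟨⟨y, hy⟩, by simp, rfl⟩, hpre' hy⟩
    choose S hS hSmap using this
    classical
    refine ⟨t.biUnion S, le_antisymm (Submodule.span_le.2 fun a ha => ?_) fun a ha => ?_⟩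
    · obtain ⟨x', -, hx'⟩ := Finset.mem_biUnion.1 (Finset.mem_coe.1 ha)
      exact hS x' hx'
    refine mem_of_flat_family _ a fun m hm => ?_
    obtain ⟨y, hy⟩ : ∃ y : U.1, (U.2.primeIdealOf y).asIdeal = m := by
      have hy : U.2.fromSpec ⟨m, hm.isPrime⟩ ∈ U.1 := U.2.range_fromSpec.le ⟨_, rfl⟩
      exact ⟨⟨_, hy⟩, congrArg PrimeSpectrum.asIdeal (U.2.fromSpec.isOpenEmbedding.injective
        (U.2.fromSpec_primeIdealOf ⟨_, hy⟩))⟩
    obtain ⟨y, hyU⟩ := y
    obtain ⟨x', rfl⟩ := g.surjective y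
    obtain ⟨x₀, hx₀, hxW₀⟩ : ∃ x₀ ∈ t, x' ∈ (W x₀).1 := by simpa using ht hyU
    letI := (θ U x' hyU).toAlgebra
    refine ⟨X'.presheaf.stalk x', inferInstance, inferInstance, hθflat U x' hyU, hy ▸ hmax U x' hyU, ?_⟩
    change θ U x' hyU a ∈ Ideal.map (θ U x' hyU) _
    rw [hθW U (W x₀) (e x₀) x' hxW₀, ← Ideal.map_map]
    refine Ideal.mem_map_of_mem _ ?_
    have h1 : (g.appLE U.1 (W x₀).1 (e x₀)).hom a ∈ Ideal.ofList (rs x₀) := hrs x₀ ▸ Ideal.mem_map_of_mem _ ha
    rw [← hSmap x₀] at h1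
    exact Ideal.map_mono (Ideal.span_mono (Finset.coe_subset.2 (Finset.subset_biUnion_of_mem S hx₀))) h1
  -- the number of generators is locally constant
  let μ : Z → ℕ := fun z => minLen (RingHom.ker (i.stalkMap z).hom)
  have hμat : ∀ (U : X.affineOpens) (_ : IsClosedImmersion (i ∣_ U.1)) (z : Z) (x : X) (hx : x ∈ U.1),
      x = i z → minLen ((RingHom.ker (i.app U.1).hom).map (X.presheaf.germ U.1 x hx).hom) = μ z := by
    rintro U hcl z _ hx rfl
    show _ = minLen _
    rw [H29Slice.ker_stalkMap_of_restrict i U hcl z hx]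
  have hlen : ∀ (U : X.affineOpens) (_ : IsClosedImmersion (i ∣_ U.1)) (x' : X') (hx : g x' ∈ U.1)
      (f : List Γ(X, U.1)), Irred (f.map (X.presheaf.germ U.1 (g x') hx).hom) →
      Irred (f.map (θ U x' hx)) := fun U _ x' hx f hf => by
    have := irred_map (g.stalkMap x').hom (Flat.stalkMap g x') hf
    rwa [List.map_map] at this
  have hμ' : ∀ z' : Z', μ (g' z') = minLen (RingHom.ker (i'.stalkMap z').hom) := by
    intro z'
    obtain ⟨U, hzU, -, hcl⟩ := exists_affine_closed i (g' z') ⊤ trivial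
    have hgx : g (i' z') = i (g' z') := by
      rw [← Scheme.Hom.comp_apply, ← hsq.w, Scheme.Hom.comp_apply]
    have hx : g (i' z') ∈ U.1 := hgx ▸ hzU
    obtain ⟨W, hW, hzW, hWle⟩ := exists_isAffineOpen_mem_and_subset (U := g ⁻¹ᵁ U.1) (x := i' z') hx
    obtain ⟨hclW, hkerW⟩ := H29Slice.restrict_baseChange hsq U.2 hcl hW hWle
    obtain ⟨L, hL⟩ : ∃ L : List Γ(X, U.1), Ideal.ofList L = RingHom.ker (i.app U.1).hom := by
      obtain ⟨s, hs⟩ := hfg U hcl
      exact ⟨s.toList, by simp only [Ideal.ofList, Finset.mem_toList]; exact hs⟩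
    obtain ⟨f, -, hf, hirr⟩ := exists_min_sublist (X.presheaf.germ U.1 (g (i' z')) hx).hom L
    rw [← hμat U hcl (g' z') _ hx hgx, H29Slice.ker_stalkMap_of_restrict i' ⟨W, hW⟩ hclW z' hzW, hkerW,
      Ideal.map_map, ← hθW U ⟨W, hW⟩ hWle (i' z') hzW, ← hL, Ideal.map_ofList, ← hf, minLen_eq hirr,
      ← Ideal.map_map, Ideal.map_ofList, ← hf, Ideal.map_ofList, List.map_map]
    rw [List.length_map]
    refine ((?_ : minLen (Ideal.ofList (f.map (θ U (i' z') hx))) = f.length).symm.trans rfl).trans ?_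
    · rw [minLen_eq (hlen U hcl _ hx f hirr), List.length_map]
    · rfl
  have hopen : ∀ s : ℕ, IsOpen {z : Z | μ z = s} := by
    intro s
    rw [← (Flat.isQuotientMap_of_surjective g').isOpen_preimage, isOpen_iff_forall_mem_open]
    intro z' hz'
    obtain ⟨W, hzW, -, hclW, rs, hrs, hker⟩ := exists_chart_le hk i' z' (h.2 z') ⊤ trivial
    refine ⟨i' ⁻¹ᵁ W.1, fun w hw => ?_, (i' ⁻¹ᵁ W.1).isOpen, hzW⟩
    have key : ∀ w (hw : i' w ∈ W.1), μ (g' w) = rs.length := by
      intro w hw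
      rw [hμ', H29Slice.ker_stalkMap_of_restrict i' W hclW w hw, hker, Ideal.map_ofList]
      refine (minLen_eq (irred_of_quasi (quasi_of_seq hk (hflatW W (i' w) hw rs hrs)) ?_)).trans (List.length_map _)
      rw [← Ideal.map_ofList, ← hker, ← H29Slice.ker_stalkMap_of_restrict i' W hclW w hw]
      exact RingHom.ker_ne_top _
    show μ (g' w) = s
    rw [key w hw, ← key z' hzW]
    exact hz'
  refine ⟨inferInstance, fun z => ?_⟩
  obtain ⟨O, hO, hOz⟩ := i.isEmbedding.isInducing.isOpen_iff.1 (hopen (μ z))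
  obtain ⟨U, hzU, hUO, hcl⟩ := exists_affine_closed i z ⟨O, hO⟩ (hOz.ge (show z ∈ {w | μ w = μ z} from rfl))
  obtain ⟨L, hL⟩ : ∃ L : List Γ(X, U.1), Ideal.ofList L = RingHom.ker (i.app U.1).hom := by
    obtain ⟨s, hs⟩ := hfg U hcl
    exact ⟨s.toList, by simp only [Ideal.ofList, Finset.mem_toList]; exact hs⟩
  obtain ⟨f, hfI, hf, hirr⟩ := exists_min_sublist (X.presheaf.germ U.1 (i z) hzU).hom L
  have hflen : f.length = μ z := by
    rw [← hμat U hcl z _ hzU rfl, ← hL, Ideal.map_ofList, ← hf, minLen_eq hirr, List.length_map]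
  -- shrink so that `f` generates
  obtain ⟨a, hazU, ha⟩ : ∃ a : Γ(X, U.1), a ∉ (U.2.primeIdealOf ⟨i z, hzU⟩).asIdeal ∧
      ∀ x ∈ RingHom.ker (i.app U.1).hom, a * x ∈ Ideal.ofList f := by
    let C : Ideal Γ(X, U.1) := (Ideal.ofList f).colon (RingHom.ker (i.app U.1).hom : Set Γ(X, U.1))
    suffices hC : ¬ C ≤ (U.2.primeIdealOf ⟨i z, hzU⟩).asIdeal by
      obtain ⟨a, ha, han⟩ := Set.not_subset.1 hC
      exact ⟨a, han, fun x hx => Submodule.mem_colon.1 ha x hx⟩
    letI : Algebra Γ(X, U.1) (X.presheaf.stalk (i z)) := (X.presheaf.germ U.1 (i z) hzU).hom.toAlgebra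
    haveI : IsLocalization.AtPrime (X.presheaf.stalk (i z)) (U.2.primeIdealOf ⟨i z, hzU⟩).asIdeal :=
      U.2.isLocalization_stalk ⟨i z, hzU⟩
    have hpt : ∀ x ∈ L, ∃ c ∉ (U.2.primeIdealOf ⟨i z, hzU⟩).asIdeal, c * x ∈ Ideal.ofList f := by
      intro x hx
      have : algebraMap Γ(X, U.1) (X.presheaf.stalk (i z)) x ∈
          (Ideal.ofList f).map (algebraMap Γ(X, U.1) (X.presheaf.stalk (i z))) := by
        rw [Ideal.map_ofList]
        exact hf.ge (Ideal.subset_span (List.mem_map_of_mem hx))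
      exact (IsLocalization.algebraMap_mem_map_algebraMap_iff
        (U.2.primeIdealOf ⟨i z, hzU⟩).asIdeal.primeCompl _ _ _).1 this
    intro hle
    choose c hc hcx using hpt
    let P : Γ(X, U.1) := (L.attach.map fun x => c x.1 x.2).prod
    have hP : P ∈ C := by
      refine Submodule.mem_colon.2 fun x hx => ?_
      rw [← hL] at hx
      show P * x ∈ _
      induction hx using Submodule.span_induction with
      | mem y hy =>
        obtain ⟨r, hr⟩ := List.dvd_prod (List.mem_map_of_mem (f := fun x : {x // x ∈ L} => c x.1 x.2) (List.mem_attach L (⟨y, hy⟩ : {x // x ∈ L})))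
        rw [show P = c y hy * r from hr, mul_comm (c y hy), mul_assoc]
        exact Ideal.mul_mem_left _ _ (hcx y hy)
      | zero => rw [mul_zero]; exact zero_mem _
      | add y w _ _ hy hw => rw [mul_add]; exact add_mem hy hw
      | smul r y _ hy => rw [smul_eq_mul, mul_left_comm]; exact Ideal.mul_mem_left _ _ hy
    have hPn : P ∈ (U.2.primeIdealOf ⟨i z, hzU⟩).asIdeal.primeCompl := Submonoid.list_prod_mem _ fun q hq => by
      obtain ⟨x, -, rfl⟩ := List.mem_map.1 hq
      exact hc x.1 x.2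
    exact hPn (hle hP)
  have hzD : i z ∈ X.basicOpen a := by
    by_contra hn
    exact hn ((X.mem_basicOpen a (i z) hzU).2 (by
      letI : Algebra Γ(X, U.1) (X.presheaf.stalk (i z)) := (X.presheaf.germ U.1 (i z) hzU).hom.toAlgebra
      haveI : IsLocalization.AtPrime (X.presheaf.stalk (i z)) (U.2.primeIdealOf ⟨i z, hzU⟩).asIdeal :=
        U.2.isLocalization_stalk ⟨i z, hzU⟩
      exact IsLocalization.map_units (M := (U.2.primeIdealOf ⟨i z, hzU⟩).asIdeal.primeCompl)
        (X.presheaf.stalk (i z)) ⟨a, hazU⟩))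
  let D : X.affineOpens := X.affineBasicOpen a
  have hDU : D.1 ≤ U.1 := X.basicOpen_le a
  have H : IsPullback (𝟙 Z) i i (𝟙 X) := IsPullback.of_horiz_isIso ⟨by simp⟩
  obtain ⟨hclD, hkerD⟩ := H29Slice.restrict_baseChange H U.2 hcl D.2 (e := hDU)
  have he : Scheme.Hom.appLE (𝟙 X) U.1 D.1 hDU = X.presheaf.map (homOfLE hDU).op := by
    simp only [Scheme.Hom.appLE, Scheme.Hom.id_app]
    rfl
  rw [he] at hkerD
  let fD : List Γ(X, D.1) := f.map (X.presheaf.map (homOfLE hDU).op).hom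
  have hkerf : RingHom.ker (i.app D.1).hom = Ideal.ofList fD := by
    refine le_antisymm ?_ ?_
    · rw [hkerD, Ideal.map_le_iff_le_comap]
      intro x hx
      have hu : IsUnit ((X.presheaf.map (homOfLE hDU).op).hom a) :=
        RingedSpace.isUnit_res_basicOpen _ a
      rw [Ideal.mem_comap, ← Ideal.unit_mul_mem_iff_mem _ hu, ← map_mul]
      simp only [fD, ← Ideal.map_ofList]
      exact Ideal.mem_map_of_mem _ (ha x hx)
    · rw [hkerD, ← hL]
      simp only [fD, ← Ideal.map_ofList]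
      exact Ideal.map_mono hfI
  refine ⟨D, hzD, hclD, fD, ?_, hkerf⟩
  refine seq_descend hk fD fun m hm => ?_
  obtain ⟨⟨y, hyD⟩, hy⟩ : ∃ y : D.1, (D.2.primeIdealOf y).asIdeal = m := by
    have hy : D.2.fromSpec ⟨m, hm.isPrime⟩ ∈ D.1 := D.2.range_fromSpec.le ⟨_, rfl⟩
    exact ⟨⟨_, hy⟩, congrArg PrimeSpectrum.asIdeal (D.2.fromSpec.isOpenEmbedding.injective
      (D.2.fromSpec_primeIdealOf ⟨_, hy⟩))⟩
  obtain ⟨x', rfl⟩ := g.surjective y
  letI := (θ D x' hyD).toAlgebra
  refine ⟨X'.presheaf.stalk x', inferInstance, inferInstance, hθflat D x' hyD, hy ▸ hmax D x' hyD, ?_⟩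
  change k.Seq _ (fD.map (θ D x' hyD))
  have hJ : Ideal.ofList (fD.map (θ D x' hyD)) = (RingHom.ker (i.app D.1).hom).map (θ D x' hyD) := by
    rw [hkerf, Ideal.map_ofList]
  by_cases htop : Ideal.ofList (fD.map (θ D x' hyD)) = ⊤
  · exact seq_of_eq_top hk htop
  obtain ⟨w, hw⟩ : g x' ∈ Set.range i := by
    by_contra hn
    obtain ⟨-, -, -, -, hg⟩ := exists_ker_eq_top i D hclD (g x') hyD hn
    apply htop
    rw [hJ, ← Ideal.map_map, hg, Ideal.map_top]
  have hμw : μ w = μ z := hOz.le (show w ∈ i ⁻¹' O from hUO (hDU (hw ▸ hyD : i w ∈ D.1)))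
  have hirrD : Irred (fD.map (X.presheaf.germ D.1 (g x') hyD).hom) := by
    refine irred_of_min fun l hl => ?_
    rw [List.length_map, List.length_map, hflen, ← hμw, ← hμat D hclD w _ hyD hw.symm, hkerf, Ideal.map_ofList]
    exact Nat.sInf_le ⟨l, rfl, hl⟩
  have hirr' := hlen D hclD x' hyD fD hirrD
  obtain ⟨W, hxW, e, rs, hrs, hreg⟩ := hloc D hclD x' hyD
  have hxr : x' ∈ Set.range i' := by
    have : (w : Z) ∈ (Set.univ : Set Z) := trivial
    obtain ⟨p, hp1, hp2⟩ := Scheme.Pullback.exists_preimage_pullback w x' hw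
    refine ⟨hsq.isoPullback.inv p, ?_⟩
    rw [← Scheme.Hom.comp_apply, hsq.isoPullback_inv_snd, hp2]
  have hJ' : Ideal.ofList (rs.map (X'.presheaf.germ W.1 x' hxW).hom) = Ideal.ofList (fD.map (θ D x' hyD)) := by
    rw [hJ, hθW D W e x' hxW, ← Ideal.map_ofList, ← hrs, Ideal.map_map]
  have hseq := hflatW W x' hxW rs (hreg hxr)
  have hirrs := irred_of_quasi (quasi_of_seq hk hseq) (hJ' ▸ htop)
  exact seq_change hk hseq hirr' hJ'
    (le_antisymm (length_le_of_irred hirr' hJ') (length_le_of_irred hirrs hJ'.symm))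

end Groth.Agent.H17.RegDescent
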