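import Groth.Agent.H17.RegDescent.Seq
import Groth.Agent.H9CI.KoszulLocal
import Mathlib

/-!
# Minimal generators over local rings; descent of regularity along flat families
-/

set_option autoImplicit false
set_option linter.style.haveILetI false
universe u

open CategoryTheory CategoryTheory.Limits TensorProduct
open Groth.Agent.H8Props.PseudoCoh
open Groth.Agent.H16Derived.KoszulPow

namespace Groth.Agent.H17.RegDescent

variable {A : Type u} [CommRing A]

theorem h1_of_change {r : ℕ} (f h : Fin r → A) (M : Matrix (Fin r) (Fin r) A) (hM : IsUnit M.det)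
    (hf : ∀ i, f i = ∑ j, M i j * h j) (hh : CAlgX.IsH1Regular h) : CAlgX.IsH1Regular f := by
  classical
  have hfM : f = M.mulVec h := funext hf
  have hhN : ∀ j, h j = ∑ l, M⁻¹ j l * f l := fun j => by
    have : h = M⁻¹.mulVec f := by rw [hfM, Matrix.mulVec_mulVec, Matrix.nonsing_inv_mul M hM, Matrix.one_mulVec]
    exact congrFun this j
  intro a ha
  have hb : ∑ j, M.transpose.mulVec a j * h j = 0 := by
    rw [← ha]
    simp only [Matrix.mulVec, dotProduct, Matrix.transpose_apply, Finset.sum_mul, hf, Finset.mul_sum]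
    rw [Finset.sum_comm]
    exact Finset.sum_congr rfl fun i _ => Finset.sum_congr rfl fun j _ => by ring
  have haN : a = M⁻¹.transpose.mulVec (M.transpose.mulVec a) := by
    rw [Matrix.mulVec_mulVec, ← Matrix.transpose_mul, Matrix.mul_nonsing_inv M hM, Matrix.transpose_one,
      Matrix.one_mulVec]
  rw [haN]
  have hmem := hh _ hb
  generalize M.transpose.mulVec a = w at hmem ⊢
  clear hb haN ha
  induction hmem using Submodule.span_induction with
  | mem v hv =>
    obtain ⟨i, j, rfl⟩ := hv
    have key : M⁻¹.transpose.mulVec (Pi.single i (h j) - Pi.single j (h i)) =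
        ∑ k, ∑ l, (M⁻¹ i k * M⁻¹ j l) • (Pi.single k (f l) - Pi.single l (f k) : Fin r → A) := by
      rw [Matrix.mulVec_sub]
      refine funext fun t => ?_
      simp only [Pi.sub_apply, Matrix.mulVec_single, Matrix.transpose_apply, Finset.sum_apply, Pi.smul_apply,
        Matrix.col_apply, MulOpposite.smul_eq_mul_unop, MulOpposite.unop_op, smul_eq_mul, mul_sub,
        Finset.sum_sub_distrib, Pi.single_apply, mul_ite, mul_zero, Finset.sum_ite_eq', Finset.sum_ite_eq,
        Finset.mem_univ, if_true]
      rw [hhN j, hhN i, Finset.mul_sum, Finset.mul_sum]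
      congr 1
      · rw [Finset.sum_comm]
        refine Finset.sum_congr rfl fun l _ => ?_
        rw [Finset.sum_ite_eq Finset.univ t (fun k => M⁻¹ i k * M⁻¹ j l * f l), if_pos (Finset.mem_univ t)]
        ring
      · exact Finset.sum_congr rfl fun l _ => by ring
    rw [key]
    exact sum_mem fun k _ => sum_mem fun l _ => Submodule.smul_mem _ _ (Submodule.subset_span ⟨k, l, rfl⟩)
  | zero => rw [Matrix.mulVec_zero]; exact zero_mem _
  | add v w _ _ hv hw => rw [Matrix.mulVec_add]; exact add_mem hv hw
  | smul c v _ hv => rw [Matrix.mulVec_smul]; exact Submodule.smul_mem _ _ hv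

theorem quasi_of_change {r : ℕ} (f h : Fin r → A) (M : Matrix (Fin r) (Fin r) A) (hM : IsUnit M.det)
    (hf : ∀ i, f i = ∑ j, M i j * h j) (hh : CAlgX.IsQuasiRegular h) : CAlgX.IsQuasiRegular f := by
  classical
  intro n P hP hev d
  have hhN : ∀ j, h j = ∑ l, M⁻¹ j l * f l := fun j => by
    have : h = M⁻¹.mulVec f := by
      rw [show f = M.mulVec h from funext hf, Matrix.mulVec_mulVec, Matrix.nonsing_inv_mul M hM, Matrix.one_mulVec]
    exact congrFun this j
  have hspan : Ideal.span (Set.range h) = Ideal.span (Set.range f) := by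
    refine le_antisymm (Ideal.span_le.2 ?_) (Ideal.span_le.2 ?_)
    · rintro _ ⟨j, rfl⟩
      rw [SetLike.mem_coe, hhN j]
      exact Ideal.sum_mem _ fun l _ => Ideal.mul_mem_left _ _ (Ideal.subset_span ⟨l, rfl⟩)
    · rintro _ ⟨j, rfl⟩
      rw [SetLike.mem_coe, hf j]
      exact Ideal.sum_mem _ fun l _ => Ideal.mul_mem_left _ _ (Ideal.subset_span ⟨l, rfl⟩)
  let lin : Matrix (Fin r) (Fin r) A → Fin r → MvPolynomial (Fin r) A := fun N i =>
    ∑ j, MvPolynomial.C (N i j) * MvPolynomial.X j
  have hlin : ∀ N i, (lin N i).IsHomogeneous 1 := fun N i =>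
    MvPolynomial.IsHomogeneous.sum _ _ _ fun j _ => (MvPolynomial.isHomogeneous_X A j).C_mul _
  have hP' : (MvPolynomial.aeval (lin M) P).IsHomogeneous n := by
    simpa using hP.aeval (lin M) (hlin M)
  have heval : MvPolynomial.eval h (MvPolynomial.aeval (lin M) P) = MvPolynomial.eval f P := by
    clear hP' hP hev
    induction P using MvPolynomial.induction_on with
    | C a => simp
    | add p q hp hq => rw [map_add, map_add, map_add, hp, hq]
    | mul_X p i hp =>
      rw [map_mul, map_mul, map_mul, MvPolynomial.aeval_X, MvPolynomial.eval_X, hp, hf]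
      simp [lin, map_sum]
  have h1 : MvPolynomial.aeval (lin M) P ∈ (Ideal.span (Set.range h)).map MvPolynomial.C :=
    MvPolynomial.mem_map_C_iff.2 (hh n _ hP' (by rw [heval, hspan]; exact hev))
  have hcomp : MvPolynomial.aeval (lin M⁻¹) (MvPolynomial.aeval (lin M) P) = P := by
    have : (MvPolynomial.aeval (lin M⁻¹)).comp (MvPolynomial.aeval (lin M)) =
        AlgHom.id A (MvPolynomial (Fin r) A) := by
      refine MvPolynomial.algHom_ext fun i => ?_
      simp only [AlgHom.comp_apply, MvPolynomial.aeval_X, lin, map_sum, map_mul, MvPolynomial.aeval_C,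
        MvPolynomial.algebraMap_eq, AlgHom.id_apply, Finset.mul_sum, ← mul_assoc]
      rw [Finset.sum_comm]
      have hone : ∀ j, ∑ k, M i k * M⁻¹ k j = (1 : Matrix (Fin r) (Fin r) A) i j := fun j => by
        rw [← Matrix.mul_apply, Matrix.mul_nonsing_inv M hM]
      have hterm : ∀ j, ∑ k, MvPolynomial.C (M i k) * MvPolynomial.C (M⁻¹ k j) * MvPolynomial.X j =
          MvPolynomial.C ((1 : Matrix (Fin r) (Fin r) A) i j) * MvPolynomial.X j := fun j => by
        rw [← hone, map_sum, Finset.sum_mul]
        exact Finset.sum_congr rfl fun k _ => by rw [map_mul]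
      rw [Finset.sum_congr rfl fun j _ => hterm j, Finset.sum_eq_single i]
      · simp
      · intro j _ hj; simp [Matrix.one_apply_ne hj.symm]
      · simp
    exact congrArg (fun φ => φ P) this
  have h2 := Ideal.mem_map_of_mem (MvPolynomial.aeval (lin M⁻¹)).toRingHom h1
  rw [Ideal.map_map, show ((MvPolynomial.aeval (lin M⁻¹)).toRingHom.comp MvPolynomial.C) = MvPolynomial.C from
    RingHom.ext fun a => by simp] at h2
  rw [show (MvPolynomial.aeval (lin M⁻¹)).toRingHom (MvPolynomial.aeval (lin M) P) = P from hcomp, hspan] at h2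
  exact MvPolynomial.mem_map_C_iff.1 h2 d

theorem irred_coeff_mem [IsLocalRing A] {f : List A} (hf : Irred f) (c : Fin f.length → A)
    (hc : ∑ i, c i * f.get i = 0) (j : Fin f.length) : c j ∈ IsLocalRing.maximalIdeal A := by
  classical
  by_contra hu
  obtain ⟨u, hu'⟩ : IsUnit (c j) := by
    by_contra h; exact hu ((IsLocalRing.mem_maximalIdeal _).2 h)
  refine hf (f.take j) (f.get j) (f.drop (j + 1)) (by simp) ?_
  have hsum := (Finset.add_sum_erase _ (fun i => c i * f.get i) (Finset.mem_univ j)).trans hc
  rw [show f.get j = (↑u⁻¹ : A) * -(∑ i ∈ Finset.univ.erase j, c i * f.get i) by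
    rw [← eq_neg_of_add_eq_zero_left hsum, ← hu', ← mul_assoc, u.inv_mul, one_mul]]
  refine Ideal.mul_mem_left _ _ (neg_mem (Ideal.sum_mem _ fun i hi => Ideal.mul_mem_left _ _
    (Ideal.subset_span ?_)))
  have hne : (i : ℕ) ≠ j := fun e => (Finset.mem_erase.1 hi).1 (Fin.ext e)
  rcases lt_or_gt_of_ne hne with h | h
  · exact List.mem_append_left _ (List.mem_iff_getElem.2 ⟨i, by simp; omega, by simp⟩)
  · exact List.mem_append_right _ (List.mem_iff_getElem.2 ⟨i - (j + 1), by simp; omega,
      by simp [show (j : ℕ) + 1 + (i - (j + 1)) = i by omega]⟩)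

theorem exists_matrix [IsLocalRing A] {f h : List A} (hf : Irred f) (heq : Ideal.ofList h = Ideal.ofList f)
    (hlen : f.length = h.length) :
    ∃ M : Matrix (Fin f.length) (Fin f.length) A, IsUnit M.det ∧
      ∀ i, f.get i = ∑ j, M i j * h.get (Fin.cast hlen j) := by
  classical
  let g : Fin f.length → A := fun j => h.get (Fin.cast hlen j)
  have hg : Set.range g = Set.range h.get := by
    ext x
    constructor
    · rintro ⟨j, rfl⟩; exact ⟨_, rfl⟩
    · rintro ⟨j, rfl⟩; exact ⟨Fin.cast hlen.symm j, by simp [g]⟩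
  have hspan : Ideal.span (Set.range g) = Ideal.span (Set.range f.get) := by
    rw [hg, Set.range_list_get, Set.range_list_get]; exact heq
  choose M hM using fun i => (Ideal.mem_span_range_iff_exists_fun (x := f.get i) (v := g)).1
    (hspan ▸ Ideal.subset_span ⟨i, rfl⟩)
  choose N hN using fun j => (Ideal.mem_span_range_iff_exists_fun (x := g j) (v := f.get)).1
    (hspan ▸ Ideal.subset_span ⟨j, rfl⟩)
  refine ⟨Matrix.of M, ?_, fun i => (hM i).symm⟩
  let P := Matrix.of M * Matrix.of N
  have hP : ∀ i l, (P - 1) i l ∈ IsLocalRing.maximalIdeal A := by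
    intro i
    refine irred_coeff_mem hf ((P - 1) i) ?_
    simp only [Matrix.sub_apply, sub_mul, Finset.sum_sub_distrib, Matrix.one_apply, ite_mul, one_mul,
      zero_mul, Finset.sum_ite_eq, Finset.mem_univ, if_true, P, Matrix.mul_apply, Matrix.of_apply,
      Finset.sum_mul, mul_assoc]
    rw [Finset.sum_comm, sub_eq_zero]
    simp only [← Finset.mul_sum, hN, g]
    exact hM i
  have h1 : (IsLocalRing.residue A) P.det = 1 := by
    rw [RingHom.map_det]
    have : (IsLocalRing.residue A).mapMatrix P = 1 := by
      refine Matrix.ext fun i l => ?_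
      have := (IsLocalRing.residue_eq_zero_iff _).2 (hP i l)
      rw [Matrix.sub_apply, map_sub, sub_eq_zero] at this
      rw [RingHom.mapMatrix_apply, Matrix.map_apply, this]
      simp [Matrix.one_apply, apply_ite]
    rw [this, Matrix.det_one]
  have hu : IsUnit P.det := isUnit_of_map_unit (IsLocalRing.residue A) _ (by rw [h1]; exact isUnit_one)
  rw [Matrix.det_mul] at hu
  exact isUnit_of_mul_isUnit_left hu

theorem seq_change [IsLocalRing A] {k : RegImm.Kind} (hk : k ≠ RegImm.Kind.regular) {f h : List A}
    (hh : k.Seq A h) (hf : Irred f) (heq : Ideal.ofList h = Ideal.ofList f) (hlen : f.length = h.length) :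
    k.Seq A f := by
  cases k with
  | regular => exact absurd rfl hk
  | koszul =>
    refine (reg_iff f).1 ((exchange Reg (fun _ _ p => kEq_reg (kEq_of_perm p))
      (fun v hv a y l hy => reg_head v hv a y l hy) f [] h hf heq ((reg_iff h).2 hh)).2 hlen)
  | h1 =>
    obtain ⟨M, hM, hfM⟩ := exists_matrix hf heq hlen
    refine h1_of_change f.get (fun j => h.get (Fin.cast hlen j)) M hM hfM ?_
    have key : ∀ (n : ℕ) (e : n = h.length), CAlgX.IsH1Regular (fun i => h.get (Fin.cast e i)) := by
      rintro n rfl; exact hh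
    exact key _ hlen
  | quasi =>
    obtain ⟨M, hM, hfM⟩ := exists_matrix hf heq hlen
    refine quasi_of_change f.get (fun j => h.get (Fin.cast hlen j)) M hM hfM ?_
    have key : ∀ (n : ℕ) (e : n = h.length), CAlgX.IsQuasiRegular (fun i => h.get (Fin.cast e i)) := by
      rintro n rfl; exact hh
    exact key _ hlen

/-- In a local ring a list generating the unit ideal is regular of every kind but the plain one. -/
theorem seq_of_eq_top [IsLocalRing A] {k : RegImm.Kind} (hk : k ≠ RegImm.Kind.regular) {l : List A}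
    (hl : Ideal.ofList l = ⊤) : k.Seq A l := by
  classical
  obtain ⟨a, ha, hau⟩ : ∃ a ∈ l, IsUnit a := by
    by_contra! h
    exact (IsLocalRing.maximalIdeal.isMaximal A).ne_top (top_le_iff.1 (hl ▸ Ideal.span_le.2 fun a ha =>
      (IsLocalRing.mem_maximalIdeal _).2 (h a ha)))
  cases k with
  | regular => exact absurd rfl hk
  | koszul =>
    exact (reg_iff l).1 fun h i j hh hj _ x hx => H9CI.koszul_exact_of_isUnit l ⟨a, ha, hau⟩ h i j hh hj x hx
  | h1 =>
    intro c hc
    obtain ⟨t, ht, rfl⟩ := List.mem_iff_getElem.1 ha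
    obtain ⟨u, hu⟩ := hau
    let T : Fin l.length := ⟨t, ht⟩
    have key : c = ∑ j, ((↑u⁻¹ : A) * c j) • (Pi.single j (l.get T) - Pi.single T (l.get j) : Fin l.length → A) := by
      refine funext fun s => ?_
      simp only [Finset.sum_apply, Pi.smul_apply, Pi.sub_apply, smul_eq_mul, mul_sub, Finset.sum_sub_distrib,
        Pi.single_apply, mul_ite, mul_zero, Finset.sum_ite_eq, Finset.mem_univ, if_true]
      rw [show l.get T = (u : A) from hu.symm, show (↑u⁻¹ : A) * c s * u = c s by
        rw [mul_assoc, mul_comm (c s), ← mul_assoc, u.inv_mul, one_mul]]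
      by_cases hs : s = T
      · simp only [hs, if_true, mul_assoc, ← Finset.mul_sum]
        rw [hc, mul_zero, sub_zero]
      · simp [hs]
    rw [key]
    exact sum_mem fun j _ => Submodule.smul_mem _ _ (Submodule.subset_span ⟨j, T, rfl⟩)
  | quasi =>
    intro n P _ _ d
    rw [show Ideal.span (Set.range l.get) = ⊤ from (by rw [Set.range_list_get]; exact hl)]
    trivial

theorem colon_map_eq_top {M : Type u} [AddCommGroup M] [Module A M] (B : Type u) [CommRing B] [Algebra A B]
    [Module.Flat A B] (S : Submodule A M) (x : M)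
    (hx : (1 : B) ⊗ₜ[A] x ∈ LinearMap.range (S.subtype.lTensor B)) :
    Ideal.map (algebraMap A B) (Submodule.comap (LinearMap.toSpanSingleton A M x) S) = ⊤ := by
  let J : Ideal A := Submodule.comap (LinearMap.toSpanSingleton A M x) S
  let φ : A →ₗ[A] M ⧸ S := S.mkQ ∘ₗ LinearMap.toSpanSingleton A M x
  have hex : Function.Exact J.subtype φ := by
    rw [LinearMap.exact_iff, Submodule.range_subtype, LinearMap.ker_comp, Submodule.ker_mkQ]
  obtain ⟨w, hw⟩ := hx
  have h0 : φ.lTensor B ((1 : B) ⊗ₜ[A] (1 : A)) = 0 := by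
    rw [LinearMap.lTensor_tmul, show φ 1 = S.mkQ x from congrArg S.mkQ (one_smul A x),
      show (1 : B) ⊗ₜ[A] S.mkQ x = S.mkQ.lTensor B ((1 : B) ⊗ₜ[A] x) from rfl, ← hw,
      ← LinearMap.lTensor_comp_apply, show S.mkQ ∘ₗ S.subtype = 0 from
        LinearMap.ext fun y => (Submodule.Quotient.mk_eq_zero S).2 y.2, LinearMap.lTensor_zero, LinearMap.zero_apply]
  obtain ⟨v, hv⟩ := ((Module.Flat.lTensor_exact B hex) _).1 h0
  rw [Ideal.eq_top_iff_one]
  have hval : ∀ v : B ⊗[A] J, TensorProduct.rid A B (J.subtype.lTensor B v) ∈ Ideal.map (algebraMap A B) J := by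
    intro v
    induction v with
    | zero => simp
    | tmul b j =>
      rw [LinearMap.lTensor_tmul, TensorProduct.rid_tmul, Algebra.smul_def]
      exact Ideal.mul_mem_right _ _ (Ideal.mem_map_of_mem _ j.2)
    | add a b ha hb => rw [map_add, map_add]; exact add_mem ha hb
  have := hval v
  rw [hv, TensorProduct.rid_tmul, one_smul] at this
  exact this

/-- Regularity of every kind but the plain one descends along a family of flat algebras. -/
theorem seq_descend {k : RegImm.Kind} (hk : k ≠ RegImm.Kind.regular) (l : List A)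
    (H : ∀ m : Ideal A, m.IsMaximal → ∃ (B : Type u) (_ : CommRing B) (_ : Algebra A B),
      Module.Flat A B ∧ m.map (algebraMap A B) ≠ ⊤ ∧ k.Seq B (l.map (algebraMap A B))) :
    k.Seq A l := by
  classical
  have main : ∀ {M : Type u} [AddCommGroup M] [Module A M] (S : Submodule A M) (x : M),
      (∀ (B : Type u) [CommRing B] [Algebra A B] [Module.Flat A B],
        k.Seq B (l.map (algebraMap A B)) → (1 : B) ⊗ₜ[A] x ∈ LinearMap.range (S.subtype.lTensor B)) →
      x ∈ S := by
    intro M _ _ S x hloc
    by_contra hxS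
    obtain ⟨m, hm, hJm⟩ := Ideal.exists_le_maximal (Submodule.comap (LinearMap.toSpanSingleton A M x) S)
      fun h => hxS (by simpa using ((Ideal.eq_top_iff_one _).1 h : _))
    obtain ⟨B, _, _, hfl, hne, hseq⟩ := H m hm
    haveI := hfl
    exact hne (top_le_iff.1 ((colon_map_eq_top B S x (hloc B hseq)).symm.le.trans (Ideal.map_mono hJm)))
  cases k with
  | regular => exact absurd rfl hk
  | koszul =>
    refine (reg_iff l).1 fun h i j hh hj hi x hx => ?_
    suffices hmem : x ∈ LinearMap.range ((Koszul.koszul A l).d h i).hom by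
      obtain ⟨w, hw⟩ := hmem
      exact ⟨w, hw⟩
    refine main _ x fun B _ _ _ hB => ?_
    obtain ⟨e, he⟩ := KoszulBC.exists_equiv B l
    have hy : (Koszul.koszul B (l.map (algebraMap A B))).d i j (e i ((1 : B) ⊗ₜ[A] x)) = 0 := by
      rw [he i j hj, LinearMap.baseChange_tmul]
      erw [hx]
      rw [TensorProduct.tmul_zero, map_zero]
    obtain ⟨w, hw⟩ := (reg_iff _).2 hB h i j hh hj hi _ hy
    obtain ⟨z, rfl⟩ := (e h).surjective w
    rw [he h i hh] at hw
    have hz := (e i).injective hw
    refine ⟨((Koszul.koszul A l).d h i).hom.rangeRestrict.lTensor B z, ?_⟩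
    rw [← LinearMap.lTensor_comp_apply, LinearMap.subtype_comp_codRestrict]
    exact hz
  | h1 =>
    intro c hc
    refine main (Submodule.span A (H29Slice.trivRel l.get)) c ?_
    intro B _ _ _ hB
    let g : Fin l.length → B := fun i => algebraMap A B (l.get i)
    have hg : CAlgX.IsH1Regular g := by
      have key : ∀ (n : ℕ) (e : n = (l.map (algebraMap A B)).length),
          CAlgX.IsH1Regular (fun i => (l.map (algebraMap A B)).get (Fin.cast e i)) := by
        rintro n rfl; exact hB
      have := key l.length (List.length_map _).symm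
      simpa [g] using this
    let e := (TensorProduct.piScalarRight A B B (Fin l.length))
    have hmem := hg (fun i => algebraMap A B (c i)) (by
      simp only [g, ← map_mul, ← map_sum, hc, map_zero])
    have hec : ∀ d : Fin l.length → A, e ((1 : B) ⊗ₜ[A] d) = fun i => algebraMap A B (d i) := fun d => by
      refine funext fun i => ?_
      simp [e, Algebra.smul_def]
    suffices hsub : Submodule.span B (H29Slice.trivRel g) ≤
        (LinearMap.range ((Submodule.span A (H29Slice.trivRel l.get)).subtype.baseChange B)).map e.toLinearMap by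
      obtain ⟨y, ⟨z, rfl⟩, hy⟩ := hsub hmem
      refine ⟨z, e.injective ?_⟩
      rw [hec]
      exact hy
    refine Submodule.span_le.2 ?_
    rintro _ ⟨i, j, rfl⟩
    refine ⟨_, ⟨(1 : B) ⊗ₜ[A] ⟨_, Submodule.subset_span ⟨i, j, rfl⟩⟩, rfl⟩, ?_⟩
    refine (hec _).trans (funext fun t => ?_)
    simp only [Submodule.subtype_apply, Pi.sub_apply, map_sub, Pi.single_apply, apply_ite (algebraMap A B), map_zero, g]
  | quasi =>
    intro n P hP hev d
    refine main (Ideal.span (Set.range l.get)) (P.coeff d) ?_
    intro B _ _ _ hB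
    let g : Fin l.length → B := fun i => algebraMap A B (l.get i)
    have hg : CAlgX.IsQuasiRegular g := by
      have key : ∀ (n : ℕ) (e : n = (l.map (algebraMap A B)).length),
          CAlgX.IsQuasiRegular (fun i => (l.map (algebraMap A B)).get (Fin.cast e i)) := by
        rintro n rfl; exact hB
      have := key l.length (List.length_map _).symm
      simpa [g] using this
    have hJ : (Ideal.span (Set.range l.get)).map (algebraMap A B) = Ideal.span (Set.range g) := by
      rw [Ideal.map_span, ← Set.range_comp]; rfl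
    have h1 := hg n (MvPolynomial.map (algebraMap A B) P) (hP.map _) (by
      rw [show g = algebraMap A B ∘ l.get from rfl, ← MvPolynomial.map_eval]
      rw [show (Ideal.span (Set.range (algebraMap A B ∘ l.get)) : Ideal B) = Ideal.span (Set.range g) from rfl, ← hJ, ← Ideal.map_pow]
      exact Ideal.mem_map_of_mem _ hev) d
    rw [MvPolynomial.coeff_map, ← hJ] at h1
    have hsub : ∀ b ∈ (Ideal.span (Set.range l.get)).map (algebraMap A B),
        b ⊗ₜ[A] (1 : A) ∈ LinearMap.range ((Ideal.span (Set.range l.get)).subtype.lTensor B) := by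
      intro b hb
      induction hb using Submodule.span_induction with
      | mem y hy =>
        obtain ⟨a, ha, rfl⟩ := hy
        refine ⟨(1 : B) ⊗ₜ[A] ⟨a, ha⟩, ?_⟩
        rw [LinearMap.lTensor_tmul, Algebra.algebraMap_eq_smul_one, TensorProduct.smul_tmul,
          smul_eq_mul, mul_one]
        rfl
      | zero => rw [TensorProduct.zero_tmul]; exact zero_mem _
      | add y z _ _ hy hz => rw [TensorProduct.add_tmul]; exact add_mem hy hz
      | smul c y _ hy =>
        obtain ⟨z, hz⟩ := hy
        refine ⟨c • z, ?_⟩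
        show (Submodule.subtype _).baseChange B (c • z) = _
        rw [map_smul]
        exact congrArg (c • ·) hz
    have := hsub _ h1
    rwa [Algebra.algebraMap_eq_smul_one, TensorProduct.smul_tmul, smul_eq_mul, mul_one] at this

end Groth.Agent.H17.RegDescent
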