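import Groth.Agent.H16Derived.KoszulPow
import Groth.Agent.H17.KoszulBC
import Groth.Agent.H29Slice.SeqOps
import Groth.Agent.H29Slice.H1Quasi
import Mathlib

/-!
# Koszul-, H₁- and quasi-regular sequences: change of minimal generators, descent
-/

set_option autoImplicit false
set_option linter.style.haveILetI false
universe u

open CategoryTheory CategoryTheory.Limits CochainComplex TensorProduct
open Groth.Agent.H8Props.PseudoCoh
open Groth.Agent.H16Derived.KoszulPow

namespace Groth.Agent.H17.RegDescent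

variable {A : Type u} [CommRing A]

theorem seq_flat' {k : RegImm.Kind} (hk : k ≠ RegImm.Kind.regular) (S : Type u) [CommRing S] [Algebra A S]
    [Module.Flat A S] {rs : List A} (h : k.Seq A rs) : k.Seq S (rs.map (algebraMap A S)) := by
  cases k with
  | regular => exact absurd rfl hk
  | koszul => exact KoszulBC.isKoszulRegularSeq_map S h
  | h1 => exact H29Slice.seq_flat (Or.inl rfl) h
  | quasi => exact H29Slice.seq_flat (Or.inr rfl) h

theorem quasi_of_seq {k : RegImm.Kind} (hk : k ≠ RegImm.Kind.regular) {rs : List A} (h : k.Seq A rs) :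
    CAlgX.IsQuasiRegular rs.get := by
  cases k with
  | regular => exact absurd rfl hk
  | koszul => exact H29Slice.isQuasiRegular_of_isH1Regular (H29Slice.isH1Regular_of_isKoszulRegular h)
  | h1 => exact H29Slice.isQuasiRegular_of_isH1Regular h
  | quasi => exact h

/-- Adding a multiple of the second entry to the first one. -/
theorem kEq_add_mul (a b c : A) (l : List A) : KEq (a :: b :: l) ((a - c * b) :: b :: l) := by
  let q : ∀ (a : A) (i : ℤ), (Koszul.koszul A (a :: b :: l)).X i ≃ₗ[A]
      (((Koszul.koszul A l).X (i + 1 + 1) × (Koszul.koszul A l).X (i + 1)) ×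
        ((Koszul.koszul A l).X (i + 1) × (Koszul.koszul A l).X i)) := fun a i =>
    (coneXEquiv (a • 𝟙 (Koszul.koszul A (b :: l))) i (i + 1) rfl).trans
      ((coneXEquiv (b • 𝟙 (Koszul.koszul A l)) (i + 1) (i + 1 + 1) rfl).prodCongr
        (coneXEquiv (b • 𝟙 (Koszul.koszul A l)) i (i + 1) rfl))
  let σ : ∀ i : ℤ, (((Koszul.koszul A l).X (i + 1 + 1) × (Koszul.koszul A l).X (i + 1)) ×
        ((Koszul.koszul A l).X (i + 1) × (Koszul.koszul A l).X i)) ≃ₗ[A]
      (((Koszul.koszul A l).X (i + 1 + 1) × (Koszul.koszul A l).X (i + 1)) ×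
        ((Koszul.koszul A l).X (i + 1) × (Koszul.koszul A l).X i)) := fun i =>
    { toFun := fun v => (v.1, (v.2.1 + c • v.1.2, v.2.2))
      invFun := fun v => (v.1, (v.2.1 - c • v.1.2, v.2.2))
      left_inv := fun v => by simp
      right_inv := fun v => by simp
      map_add' := fun v w => by simp; abel
      map_smul' := fun r v => by
        simp only [Prod.smul_fst, Prod.smul_snd, RingHom.id_apply, Prod.smul_mk, smul_add, smul_comm r c] }
  have hd : ∀ (a : A) (i : ℤ) (x : (Koszul.koszul A (a :: b :: l)).X i),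
      q a (i + 1) ((Koszul.koszul A (a :: b :: l)).d i (i + 1) x) =
        ((((Koszul.koszul A l).d (i + 1 + 1) (i + 1 + 1 + 1) (q a i x).1.1),
          (-(b • (q a i x).1.1) - (Koszul.koszul A l).d (i + 1) (i + 1 + 1) (q a i x).1.2)),
          ((a • (q a i x).1.1 - (Koszul.koszul A l).d (i + 1) (i + 1 + 1) (q a i x).2.1),
          (a • (q a i x).1.2 + (b • (q a i x).2.1 + (Koszul.koszul A l).d i (i + 1) (q a i x).2.2)))) := by
    intro a i x
    refine (congrArg ((coneXEquiv (b • 𝟙 (Koszul.koszul A l)) (i + 1 + 1) (i + 1 + 1 + 1) rfl).prodCongr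
      (coneXEquiv (b • 𝟙 (Koszul.koszul A l)) (i + 1) (i + 1 + 1) rfl))
      (H29Slice.koszul_cons_d a (b :: l) i (i + 1) (i + 1 + 1) rfl rfl x)).trans ?_
    refine (congrArg₂ Prod.mk
      ((map_neg (coneXEquiv (b • 𝟙 (Koszul.koszul A l)) (i + 1 + 1) (i + 1 + 1 + 1) rfl) _).trans
        (congrArg Neg.neg (H29Slice.koszul_cons_d b l (i + 1) (i + 1 + 1) (i + 1 + 1 + 1) rfl rfl _)))
      ((map_add (coneXEquiv (b • 𝟙 (Koszul.koszul A l)) (i + 1) (i + 1 + 1) rfl) _ _).trans
        (congrArg₂ (· + ·) (map_smul (coneXEquiv (b • 𝟙 (Koszul.koszul A l)) (i + 1) (i + 1 + 1) rfl) a _)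
          (H29Slice.koszul_cons_d b l i (i + 1) (i + 1 + 1) rfl rfl _)))).trans ?_
    refine Prod.ext (Prod.ext ?_ ?_) (Prod.ext ?_ ?_)
    · exact neg_neg _
    · exact (neg_add _ _).trans (sub_eq_add_neg _ _).symm
    · exact (sub_eq_add_neg _ _).symm
    · rfl
  refine ⟨fun i => ((q a i).trans (σ i)).trans (q (a - c * b) i).symm, ?_⟩
  intro i j hj x
  subst hj
  apply (q (a - c * b) (i + 1)).injective
  refine ((q (a - c * b) (i + 1)).apply_symm_apply _).trans ?_
  refine (congrArg (σ (i + 1)) (hd a i x)).trans (Eq.trans ?_ (hd (a - c * b) i _).symm)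
  have hv : q (a - c * b) i ((q (a - c * b) i).symm (σ i (q a i x))) = σ i (q a i x) :=
    (q (a - c * b) i).apply_symm_apply _
  simp only [LinearEquiv.trans_apply, hv]
  simp only [σ, LinearEquiv.coe_mk, LinearMap.coe_mk, AddHom.coe_mk]
  refine Prod.ext (Prod.ext rfl rfl) (Prod.ext ?_ ?_)
  · simp only [map_add, map_smul, sub_smul, mul_smul, smul_sub, smul_neg]
    abel
  · simp only [smul_add, sub_smul, mul_smul, smul_comm b c]
    abel

theorem reg_unit_mul (v : Aˣ) (f : A) (l : List A) (H : Reg (f :: l)) : Reg ((v : A) * f :: l) := by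
  have hcoord : ∀ (i : ℤ) (w₁ : (Koszul.koszul A l).X (i + 1)) (w₂ : (Koszul.koszul A l).X i),
      ((↑v⁻¹ : A) • -((Koszul.koszul A l).d (i + 1) (i + 1 + 1) w₁),
        f • w₁ + (Koszul.koszul A l).d i (i + 1) w₂) =
      (-((Koszul.koszul A l).d (i + 1) (i + 1 + 1) ((↑v⁻¹ : A) • w₁)),
        ((v : A) * f) • ((↑v⁻¹ : A) • w₁) + (Koszul.koszul A l).d i (i + 1) w₂) := by
    intro i w₁ w₂
    rw [map_smul, smul_neg, smul_smul, show (v : A) * f * (↑v⁻¹ : A) = f by
      rw [mul_comm (v : A) f, mul_assoc, v.mul_inv, mul_one]]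
  refine kEq_reg (l := f :: l) ⟨fun i => ((coneXEquiv (f • 𝟙 (Koszul.koszul A l)) i (i + 1) rfl).trans
    ((LinearEquiv.smulOfUnit v⁻¹).prodCongr (LinearEquiv.refl A _))).trans
      (coneXEquiv (((v : A) * f) • 𝟙 (Koszul.koszul A l)) i (i + 1) rfl).symm, ?_⟩ H
  intro i j hj x
  subst hj
  apply (coneXEquiv (((v : A) * f) • 𝟙 (Koszul.koszul A l)) (i + 1) (i + 1 + 1) rfl).injective
  refine ((coneXEquiv (((v : A) * f) • 𝟙 (Koszul.koszul A l)) (i + 1) (i + 1 + 1) rfl).apply_symm_apply _).trans ?_
  refine (congrArg ((LinearEquiv.smulOfUnit v⁻¹).prodCongr (LinearEquiv.refl A _))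
    (H29Slice.koszul_cons_d f l i (i + 1) (i + 1 + 1) rfl rfl x)).trans ?_
  refine Eq.trans ?_ (H29Slice.koszul_cons_d ((v : A) * f) l i (i + 1) (i + 1 + 1) rfl rfl _).symm
  refine Eq.trans ?_ (congrArg (fun w => (-((Koszul.koszul A l).d (i + 1) (i + 1 + 1) w.1),
    ((v : A) * f) • w.1 + (Koszul.koszul A l).d i (i + 1) w.2))
    ((coneXEquiv (((v : A) * f) • 𝟙 (Koszul.koszul A l)) i (i + 1) rfl).apply_symm_apply _)).symm
  exact hcoord i _ _

/-- Changing the head by a unit and a combination of the tail. -/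
theorem reg_head (v : A) (hv : IsUnit v) (f y : A) (l : List A) (hy : y ∈ Ideal.ofList l) (H : Reg (f :: l)) :
    Reg ((v * f + y) :: l) := by
  obtain ⟨u, rfl⟩ := hv
  have key : ∀ (m pre : List A) (g : A), Reg (g :: (pre ++ m)) → ∀ y ∈ Ideal.ofList m,
      Reg ((g + y) :: (pre ++ m)) := by
    intro m
    induction m with
    | nil =>
      intro pre g hg y hy
      rw [Ideal.ofList_nil, Ideal.mem_bot] at hy
      rwa [hy, add_zero]
    | cons b m ih =>
      intro pre g hg y hy
      rw [Ideal.ofList_cons, Submodule.mem_sup] at hy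
      obtain ⟨z, hz, w, hw, rfl⟩ := hy
      obtain ⟨c, rfl⟩ := Ideal.mem_span_singleton'.1 hz
      have h1 : Reg (g :: b :: (pre ++ m)) := kEq_reg (kEq_of_perm (List.Perm.cons g List.perm_middle)) hg
      have h2 : Reg ((g + c * b) :: b :: (pre ++ m)) := by
        have := kEq_reg (kEq_add_mul g b (-c) (pre ++ m)) h1
        rwa [neg_mul, sub_neg_eq_add] at this
      have h3 := kEq_reg (kEq_of_perm (List.Perm.cons _ List.perm_middle.symm)) h2
      have h4 := ih (pre ++ [b]) (g + c * b) (by simpa using h3) w hw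
      rw [← add_assoc]
      simpa using h4
  simpa using key l [] _ (by simpa using reg_unit_mul u f l H) y hy

/-- An irredundant list: no entry is a combination of the others. -/
def Irred (f : List A) : Prop := ∀ l a m, f = l ++ a :: m → a ∉ Ideal.ofList (l ++ m)

theorem ofList_perm {l m : List A} (h : l.Perm m) : Ideal.ofList l = Ideal.ofList m :=
  congrArg Ideal.span (Set.ext fun _ => h.mem_iff)

theorem mem_sup_smul_maximal [IsLocalRing A] : ∀ (l : List A) (pre : List A) (x : A),
    x ∈ Ideal.ofList (pre ++ l) →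
      (∃ l₁ a l₂, l = l₁ ++ a :: l₂ ∧ ∃ c y, IsUnit c ∧ y ∈ Ideal.ofList (pre ++ (l₁ ++ l₂)) ∧ x = c * a + y) ∨
      x ∈ Ideal.ofList pre ⊔ IsLocalRing.maximalIdeal A * Ideal.ofList l := by
  intro l
  induction l with
  | nil => intro pre x hx; exact Or.inr (Ideal.mem_sup_left (by simpa using hx))
  | cons a l ih =>
    intro pre x hx
    rw [ofList_perm List.perm_middle, Ideal.ofList_cons, Submodule.mem_sup] at hx
    obtain ⟨z, hz, w, hw, rfl⟩ := hx
    obtain ⟨c, rfl⟩ := Ideal.mem_span_singleton'.1 hz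
    by_cases hc : IsUnit c
    · exact Or.inl ⟨[], a, l, rfl, c, w, hc, hw, rfl⟩
    · rcases ih pre w hw with ⟨l₁, b, l₂, rfl, d, y, hd, hy, rfl⟩ | hw'
      · refine Or.inl ⟨a :: l₁, b, l₂, rfl, d, c * a + y, hd, ?_, by ring⟩
        rw [show pre ++ ((a :: l₁) ++ l₂) = pre ++ a :: (l₁ ++ l₂) from rfl, ofList_perm List.perm_middle,
          Ideal.ofList_cons]
        exact Submodule.add_mem_sup (Ideal.mem_span_singleton'.2 ⟨c, rfl⟩) hy
      · refine Or.inr (Submodule.add_mem _ (Ideal.mem_sup_right (Ideal.mul_mem_mul ?_ ?_))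
          (?_ : w ∈ _))
        · exact (IsLocalRing.mem_maximalIdeal _).2 hc
        · exact Ideal.subset_span (List.mem_cons_self (a := a) (l := l))
        · have hmono : Ideal.ofList pre ⊔ IsLocalRing.maximalIdeal A * Ideal.ofList l ≤
              Ideal.ofList pre ⊔ IsLocalRing.maximalIdeal A * Ideal.ofList (a :: l) :=
            sup_le_sup (le_refl _) (Ideal.mul_mono_right
              (Ideal.span_mono fun b hb => List.mem_cons_of_mem a hb))
          exact hmono hw'

/-- Exchange: an irredundant list of generators of an ideal is the shortest one and is obtained from any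
list of the same length by permutations and head substitutions. -/
theorem exchange [IsLocalRing A] (P : List A → Prop)
    (hperm : ∀ l m : List A, l.Perm m → P l → P m)
    (hhead : ∀ (v : A), IsUnit v → ∀ (f y : A) (l : List A), y ∈ Ideal.ofList l → P (f :: l) → P ((v * f + y) :: l)) :
    ∀ (f pre l : List A), Irred (pre ++ f) → Ideal.ofList (pre ++ l) = Ideal.ofList (pre ++ f) →
      P (pre ++ l) → f.length ≤ l.length ∧ (f.length = l.length → P (pre ++ f)) := by
  intro f
  induction f with
  | nil =>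
    intro pre l _ _ hP
    refine ⟨Nat.zero_le _, fun h => ?_⟩
    rwa [List.length_eq_zero_iff.1 h.symm] at hP
  | cons a f ih =>
    intro pre l hirr heq hP
    have ha : a ∈ Ideal.ofList (pre ++ l) := heq ▸ Ideal.subset_span (by simp)
    rcases mem_sup_smul_maximal l pre a ha with ⟨l₁, b, l₂, rfl, c, y, hc, hy, hay⟩ | ha'
    · have hp1 : (pre ++ (l₁ ++ b :: l₂)).Perm (b :: (pre ++ (l₁ ++ l₂))) :=
        (List.Perm.append_left pre List.perm_middle).trans List.perm_middle
      have h2 : P (a :: (pre ++ (l₁ ++ l₂))) := hay ▸ hhead c hc b y _ hy (hperm _ _ hp1 hP)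
      have hp2 : (a :: (pre ++ (l₁ ++ l₂))).Perm (pre ++ [a] ++ (l₁ ++ l₂)) := by
        simpa using (List.perm_middle (a := a) (l₁ := pre) (l₂ := l₁ ++ l₂)).symm
      have heq' : Ideal.ofList (pre ++ [a] ++ (l₁ ++ l₂)) = Ideal.ofList (pre ++ [a] ++ f) := by
        rw [show pre ++ [a] ++ f = pre ++ a :: f by simp, ← heq, ← ofList_perm hp2, ofList_perm hp1,
          Ideal.ofList_cons, Ideal.ofList_cons]
        refine le_antisymm (sup_le ?_ le_sup_right) (sup_le ?_ le_sup_right)
        · rw [Ideal.span_singleton_le_iff_mem, hay]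
          exact Submodule.add_mem_sup (Ideal.mem_span_singleton'.2 ⟨c, rfl⟩) hy
        · obtain ⟨u, rfl⟩ := hc
          rw [Ideal.span_singleton_le_iff_mem,
            show b = (↑u⁻¹ : A) * a + -((↑u⁻¹ : A) * y) by
              rw [hay, mul_add, ← mul_assoc, u.inv_mul, one_mul]; ring]
          exact Submodule.add_mem_sup (Ideal.mem_span_singleton'.2 ⟨_, rfl⟩)
            (neg_mem (Ideal.mul_mem_left _ _ hy))
      obtain ⟨h3, h4⟩ := ih (pre ++ [a]) (l₁ ++ l₂) (by simpa using hirr) heq' (hperm _ _ hp2 h2)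
      refine ⟨by simp at h3 ⊢; omega, fun hlen => ?_⟩
      have := h4 (by simp at hlen ⊢; omega)
      simpa using this
    · exfalso
      have h1 : IsLocalRing.maximalIdeal A * Ideal.ofList l ≤
          Ideal.ofList (pre ++ f) ⊔ IsLocalRing.maximalIdeal A * Ideal.span {a} := by
        refine le_trans (Ideal.mul_mono_right (le_trans ?_ (le_of_eq (heq.trans
          ((ofList_perm List.perm_middle).trans (Ideal.ofList_cons _ _)))))) ?_
        · exact Ideal.span_mono fun b hb => List.mem_append_right pre hb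
        · rw [Ideal.mul_sup, sup_comm]
          exact sup_le_sup Ideal.mul_le_right (le_refl _)
      have h2 : a ∈ Ideal.ofList (pre ++ f) ⊔ IsLocalRing.maximalIdeal A * Ideal.span {a} :=
        (sup_le (le_trans (Ideal.span_mono fun b hb => List.mem_append_left f hb) le_sup_left) h1) ha'
      obtain ⟨z, hz, w, hw, hzw⟩ := Submodule.mem_sup.1 h2
      obtain ⟨m, hm, rfl⟩ := Ideal.mem_mul_span_singleton.1 hw
      obtain ⟨u, hu⟩ := IsLocalRing.isUnit_one_sub_self_of_mem_nonunits m hm
      refine hirr pre a f rfl ?_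
      have : a = (↑u⁻¹ : A) * z := by
        rw [show z = (1 - m) * a by rw [sub_mul, one_mul, eq_sub_iff_add_eq]; exact hzw, ← hu, ← mul_assoc,
          u.inv_mul, one_mul]
      rw [this]
      exact Ideal.mul_mem_left _ _ hz

theorem length_le_of_irred [IsLocalRing A] {f l : List A} (hf : Irred f)
    (h : Ideal.ofList l = Ideal.ofList f) : f.length ≤ l.length :=
  (exchange (fun _ => True) (fun _ _ _ _ => trivial) (fun _ _ _ _ _ _ _ => trivial) f [] l hf h trivial).1

theorem irred_of_min {f : List A}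
    (h : ∀ l : List A, Ideal.ofList l = Ideal.ofList f → f.length ≤ l.length) : Irred f := by
  rintro l a m rfl ha
  have := h (l ++ m) (by
    rw [ofList_perm (List.perm_middle (a := a) (l₁ := l) (l₂ := m)), Ideal.ofList_cons, right_eq_sup,
      Ideal.span_singleton_le_iff_mem]
    exact ha)
  simp at this

theorem irred_of_quasi {f : List A} (hf : CAlgX.IsQuasiRegular f.get) (hne : Ideal.ofList f ≠ ⊤) :
    Irred f := by
  classical
  rintro l a m rfl ha
  apply hne
  have hidx : l.length < (l ++ a :: m).length := by simp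
  have hrange : Ideal.span (Set.range (l ++ a :: m).get) = Ideal.ofList (l ++ a :: m) := by
    rw [Ideal.ofList, Set.range_list_get]
  let t : Fin (l ++ a :: m).length := ⟨l.length, hidx⟩
  have hmem : a ∈ Ideal.span ((l ++ a :: m).get '' {j | j ≠ t}) := by
    refine Ideal.span_mono ?_ ha
    intro b hb
    rcases List.mem_append.1 hb with hb | hb <;> obtain ⟨j, hj, rfl⟩ := List.mem_iff_getElem.1 hb
    · refine ⟨⟨j, by simp; omega⟩, fun e => ?_, ?_⟩
      · exact absurd (congrArg Fin.val e) (by simp [t]; omega)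
      · simp [List.getElem_append_left hj]
    · refine ⟨⟨l.length + 1 + j, by simp; omega⟩, fun e => ?_, ?_⟩
      · exact absurd (congrArg Fin.val e) (by simp [t]; omega)
      · simp [List.getElem_append_right (show l.length ≤ l.length + 1 + j by omega), show l.length + 1 + j - l.length = j + 1 by omega]
  have key : ∀ x ∈ Ideal.span ((l ++ a :: m).get '' {j | j ≠ t}),
      ∃ P : MvPolynomial (Fin (l ++ a :: m).length) A, P.IsHomogeneous 1 ∧
      MvPolynomial.eval (l ++ a :: m).get P = x ∧ P.coeff (Finsupp.single t 1) = 0 := by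
    intro x hx
    induction hx using Submodule.span_induction with
    | mem x hx =>
      obtain ⟨j, hj, rfl⟩ := hx
      refine ⟨MvPolynomial.X j, MvPolynomial.isHomogeneous_X A j, MvPolynomial.eval_X j, ?_⟩
      rw [MvPolynomial.coeff_X', if_neg fun e => hj (Finsupp.single_left_injective one_ne_zero e)]
    | zero => exact ⟨0, MvPolynomial.isHomogeneous_zero _ A 1, map_zero _, MvPolynomial.coeff_zero _⟩
    | add x y _ _ hx hy =>
      obtain ⟨P, hP, hPx, hPt⟩ := hx
      obtain ⟨Q, hQ, hQy, hQt⟩ := hy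
      exact ⟨P + Q, hP.add hQ, by rw [map_add, hPx, hQy], by rw [MvPolynomial.coeff_add, hPt, hQt, add_zero]⟩
    | smul c x _ hx =>
      obtain ⟨P, hP, hPx, hPt⟩ := hx
      exact ⟨MvPolynomial.C c * P, hP.C_mul c, by rw [map_mul, MvPolynomial.eval_C, hPx, smul_eq_mul],
        by rw [MvPolynomial.coeff_C_mul, hPt, mul_zero]⟩
  obtain ⟨P, hP, hPa, hPt⟩ := key a hmem
  have hta : (l ++ a :: m).get t = a := by simp [t]
  have h0 : MvPolynomial.eval (l ++ a :: m).get (MvPolynomial.X t - P) = 0 := by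
    rw [map_sub, MvPolynomial.eval_X, hPa, hta, sub_self]
  have h1 := hf 1 (MvPolynomial.X t - P) ((MvPolynomial.isHomogeneous_X A t).sub hP)
    (by rw [h0]; exact zero_mem _) (Finsupp.single t 1)
  rw [MvPolynomial.coeff_sub, MvPolynomial.coeff_X', if_pos rfl, hPt, sub_zero, hrange] at h1
  exact (Ideal.eq_top_iff_one _).2 h1

end Groth.Agent.H17.RegDescent
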